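import Mathlib

/-! An algebra over a field whose diagonal is an open immersion is finite. -/

set_option autoImplicit false
universe u

open TensorProduct AlgebraicGeometry CategoryTheory Limits

namespace DiagFinLib

variable (k A : Type u) [Field k] [CommRing A] [Algebra k A]

theorem finite_of_separable_idempotent (f : A ⊗[k] A)
    (hμ : Algebra.TensorProduct.lmul' k (S := A) f = 1)
    (hf : ∀ a : A, (a ⊗ₜ[k] (1 : A)) * f = ((1 : A) ⊗ₜ[k] a) * f) : Module.Finite k A := by
  classical
  let 𝓑 := Module.Basis.ofVectorSpace k A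
  let E := TensorProduct.equivFinsuppOfBasisRight (M := A) 𝓑
  let c := E f
  have hsum : f = c.sum fun i m => m ⊗ₜ[k] 𝓑 i := by
    rw [← TensorProduct.equivFinsuppOfBasisRight_symm_apply 𝓑 c, LinearEquiv.symm_apply_apply]
  let V := Submodule.span k (Set.range c)
  have hV : ∀ l, c l ∈ V := fun l => Submodule.subset_span ⟨l, rfl⟩
  have hmul : ∀ (a : A) (j), a * c j ∈ V := fun a j => by
    have e := congrArg (fun t => E t j) (hf a)
    simp only [hsum, Finsupp.sum, Finset.mul_sum, Algebra.TensorProduct.tmul_mul_tmul, one_mul,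
      map_sum, Finsupp.finset_sum_apply, E, TensorProduct.equivFinsuppOfBasisRight_apply_tmul_apply,
      Module.Basis.repr_self] at e
    have hl : (∑ i ∈ c.support, (Finsupp.single i (1 : k)) j • (a * c i)) = a * c j := by
      rw [Finset.sum_eq_single j]
      · simp
      · intro i _ hij; simp [Finsupp.single_eq_of_ne' hij]
      · intro hj; simp [Finsupp.notMem_support_iff.mp hj]
    rw [← hl, e]
    exact Submodule.sum_mem _ fun i _ => Submodule.smul_mem _ _ (hV i)
  have h1 : (1 : A) ∈ V := by
    rw [← hμ, hsum, map_finsuppSum]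
    refine Submodule.sum_mem _ fun i _ => ?_
    beta_reduce
    rw [Algebra.TensorProduct.lmul'_apply_tmul, mul_comm]
    exact hmul _ i
  have htop : V = ⊤ := by
    refine eq_top_iff.mpr fun a _ => ?_
    have hid : ∀ v ∈ V, a * v ∈ V := fun v hv => by
      induction hv using Submodule.span_induction with
      | mem x hx => obtain ⟨j, rfl⟩ := hx; exact hmul a j
      | zero => simp
      | add x y _ _ h h' => rw [mul_add]; exact V.add_mem h h'
      | smul r x _ h => rw [mul_smul_comm]; exact V.smul_mem r h
    simpa using hid 1 h1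
  exact ⟨Submodule.fg_def.mpr ⟨Set.range c, c.finite_range, htop⟩⟩

theorem finite_of_isOpenImmersion_diagonal
    (h : IsOpenImmersion (pullback.diagonal (Spec.map (CommRingCat.ofHom (algebraMap k A))))) :
    Module.Finite k A := by
  rw [diagonal_SpecMap k A, MorphismProperty.cancel_right_of_respectsIso (P := @IsOpenImmersion)] at h
  have hs : Function.Surjective (Algebra.TensorProduct.lmul' k : A ⊗[k] A →ₐ[k] A) := fun a =>
    ⟨a ⊗ₜ 1, by simp⟩
  obtain ⟨e, he, hker⟩ := (isOpenImmersion_SpecMap_iff_of_surjective _ hs).mp h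
  have hμe : Algebra.TensorProduct.lmul' k (S := A) e = 0 := by
    have : e ∈ RingHom.ker (Algebra.TensorProduct.lmul' k : A ⊗[k] A →ₐ[k] A).toRingHom :=
      hker.ge (Ideal.mem_span_singleton_self e)
    exact this
  refine finite_of_separable_idempotent k A (1 - e) (by rw [map_sub, map_one, hμe, sub_zero]) fun a => ?_
  have hm : a ⊗ₜ[k] (1 : A) - (1 : A) ⊗ₜ[k] a ∈ Ideal.span {e} := by
    refine hker.le ?_
    show Algebra.TensorProduct.lmul' k (S := A) _ = 0
    simp
  obtain ⟨r, hr⟩ := Ideal.mem_span_singleton.mp hm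
  rw [← sub_eq_zero, ← sub_mul, hr, mul_sub, mul_one, mul_right_comm, he.eq, sub_self]

theorem finiteType_finitePresentation_of_diagonal {R A : CommRingCat.{u}} (hR : IsField R) (φ : R ⟶ A)
    (h : IsOpenImmersion (pullback.diagonal (Spec.map φ))) : φ.hom.FinitePresentation := by
  letI := hR.toField
  letI := φ.hom.toAlgebra
  haveI := finite_of_isOpenImmersion_diagonal R A h
  exact RingHom.FinitePresentation.of_finiteType.mp (RingHom.finiteType_algebraMap.mpr inferInstance)

end DiagFinLib
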